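import Cfsg.Agent.Lib.Helper5.F11.H17.FrCDefs

/-!
CORE13 (S5679 + S5696), block A leaves A1 `sp_add_eq_one`, A2 `sp_facts` (helper17's market,
notes/S5679_core_leaves.lean): pure prime-field arithmetic on the special values.
-/

set_option autoImplicit false
set_option linter.unusedSectionVars false
set_option linter.unusedVariables false

namespace Cfsg.Agent.Lib.Helper5.F11.H9.FrCLeaf

open Module QuadraticMap Matrix Cfsg.Agent.Lib.Helper25.CD Cfsg.Agent.Lib.Helper25.Spin
  Cfsg.Agent.Lib.Helper5.NSMax Cfsg.Agent.Lib.Helper5.PairMax Cfsg.Agent.Lib.Helper17.OC2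
  Cfsg.Agent.Lib.Helper29.FrStd Cfsg.Agent.Lib.Helper11.Mono Cfsg.Agent.Lib.Helper5.F11.H17.FrC

variable {κ : Type} [Fintype κ] [DecidableEq κ] {F : Type*} [Field F] [Fintype F]
  {c : F} {M : Subgroup ↥(Cfsg.isometryGroup F ⇑(stdQ κ F c))}

/-- in a field of prime order `p`, the natural numbers `0 < n < p` are non-zero -/
theorem natCast_ne_zero_of_lt_card (hp : (Fintype.card F).Prime) {n : ℕ} (hn0 : n ≠ 0)
    (hn : n < Fintype.card F) : ((n : ℕ) : F) ≠ 0 := by
  have : Fact (Fintype.card F).Prime := ⟨hp⟩
  have : CharP F (Fintype.card F) := charP_of_card_eq_prime rfl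
  intro h
  rw [CharP.cast_eq_zero_iff F (Fintype.card F)] at h
  exact absurd (Nat.le_of_dvd (Nat.pos_of_ne_zero hn0) h) (by omega)

/-- every element of a field of prime order is the cast of a natural number -/
theorem exists_natCast_eq (hp : (Fintype.card F).Prime) (t : F) : ∃ n : ℕ, ((n : ℕ) : F) = t := by
  have : Fact (Fintype.card F).Prime := ⟨hp⟩
  let φ := ZMod.ringEquivOfPrime F hp rfl
  refine ⟨(φ.symm t).val, ?_⟩
  have h1 : ((((φ.symm t).val : ℕ) : ZMod (Fintype.card F))) = φ.symm t := ZMod.natCast_zmod_val _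
  have h2 := congrArg φ h1
  rw [map_natCast, RingEquiv.apply_symm_apply] at h2
  exact h2

/-- A1 (`p ≥ 5`).  Two special numbers with sum 1 are `{0,1}` or `{1/2,1/2}`. -/
theorem sp_add_eq_one (hp : (Fintype.card F).Prime) (h5 : 5 ≤ Fintype.card F) {x y : F} (hx : Sp x) (hy : Sp y) (hxy : x + y = 1) :
    (x = 0 ∧ y = 1) ∨ (x = 1 ∧ y = 0) ∨ (2 * x = 1 ∧ 2 * y = 1) := by
  have h2 : (2 : F) ≠ 0 := by
    have := natCast_ne_zero_of_lt_card hp (n := 2) (by norm_num) (by omega)
    exact_mod_cast this
  have h3 : (3 : F) ≠ 0 := by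
    have := natCast_ne_zero_of_lt_card hp (n := 3) (by norm_num) (by omega)
    exact_mod_cast this
  have h4 : (4 : F) ≠ 0 := by
    have := natCast_ne_zero_of_lt_card hp (n := 4) (by norm_num) (by omega)
    exact_mod_cast this
  have h1 : (1 : F) ≠ 0 := one_ne_zero
  obtain rfl : y = 1 - x := by linear_combination hxy
  have key : x = 0 ∨ x = 1 ∨ 2 * x = 1 := by
    rcases hx with hx | hx | hx | hx | hx
    · exact Or.inl hx
    · exact Or.inr (Or.inl hx)
    · exfalso
      rcases hy with hy | hy | hy | hy | hy
      · exact h3 (by linear_combination hx + 4 * hy)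
      · exact h1 (by linear_combination -hx - 4 * hy)
      · exact h2 (by linear_combination hx + hy)
      · exact h1 (by linear_combination hx + 2 * hy)
      · exact h1 (by linear_combination hy - (4 * x - 4) * hx)
    · exact Or.inr (Or.inr hx)
    · rcases hy with hy | hy | hy | hy | hy
      · exact Or.inr (Or.inl (by linear_combination -hy))
      · exact Or.inl (by linear_combination -hy)
      · exfalso
        exact h1 (by linear_combination hx + 4 * x * hy)
      · exact Or.inr (Or.inr (by linear_combination -hy))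
      · have h8 : (4 : F) * (2 * x - 1) = 0 := by linear_combination hx - hy
        rcases mul_eq_zero.mp h8 with h | h
        · exact absurd h h4
        · exact Or.inr (Or.inr (by linear_combination h))
  rcases key with h | h | h
  · exact Or.inl ⟨h, by rw [h, sub_zero]⟩
  · exact Or.inr (Or.inl ⟨h, by rw [h, sub_self]⟩)
  · exact Or.inr (Or.inr ⟨h, by linear_combination -h⟩)

/-- A2 (`p ≥ 11`).  Field facts on the special values `q = 1/4`, `h = 1/2`, `α` (a root of `16X²-12X+1`):
`1/16`, `1/8` are not special; `2α` is not special; `4α²` special forces `p = 11` (then `4α² = 1`). -/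
theorem sp_facts (hp : (Fintype.card F).Prime) (h11 : 11 ≤ Fintype.card F) :
    (∀ x : F, 16 * x = 1 → ¬ Sp x) ∧ (∀ x : F, 8 * x = 1 → ¬ Sp x) ∧
    (∀ x : F, 16 * x ^ 2 - 12 * x + 1 = 0 → ¬ Sp (2 * x)) ∧
    (∀ x : F, 16 * x ^ 2 - 12 * x + 1 = 0 → Sp (4 * x ^ 2) → 4 * x ^ 2 = 1) ∧
    (∀ x y : F, 16 * x ^ 2 - 12 * x + 1 = 0 → 16 * y ^ 2 - 12 * y + 1 = 0 → x ≠ y → 4 * x + 4 * y = 3) := by
  have h2 : (2 : F) ≠ 0 := by
    have := natCast_ne_zero_of_lt_card hp (n := 2) (by norm_num) (by omega)
    exact_mod_cast this
  have h3 : (3 : F) ≠ 0 := by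
    have := natCast_ne_zero_of_lt_card hp (n := 3) (by norm_num) (by omega)
    exact_mod_cast this
  have h4 : (4 : F) ≠ 0 := by
    have := natCast_ne_zero_of_lt_card hp (n := 4) (by norm_num) (by omega)
    exact_mod_cast this
  have h5 : (5 : F) ≠ 0 := by
    have := natCast_ne_zero_of_lt_card hp (n := 5) (by norm_num) (by omega)
    exact_mod_cast this
  have h7 : (7 : F) ≠ 0 := by
    have := natCast_ne_zero_of_lt_card hp (n := 7) (by norm_num) (by omega)
    exact_mod_cast this
  have h1 : (1 : F) ≠ 0 := one_ne_zero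
  have h15 : (15 : F) ≠ 0 := by
    have : (15 : F) = 3 * 5 := by norm_num
    rw [this]; exact mul_ne_zero h3 h5
  have h20 : (20 : F) ≠ 0 := by
    have : (20 : F) = 4 * 5 := by norm_num
    rw [this]; exact mul_ne_zero h4 h5
  refine ⟨?_, ?_, ?_, ?_, ?_⟩
  · intro x hx hs
    rcases hs with hs | hs | hs | hs | hs
    · exact h1 (by linear_combination -hx + 16 * hs)
    · exact h15 (by linear_combination hx - 16 * hs)
    · exact h3 (by linear_combination hx - 4 * hs)
    · exact h7 (by linear_combination hx - 8 * hs)
    · exact h5 (by linear_combination 16 * hs - (16 * x - 11) * hx)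
  · intro x hx hs
    rcases hs with hs | hs | hs | hs | hs
    · exact h1 (by linear_combination -hx + 8 * hs)
    · exact h7 (by linear_combination hx - 8 * hs)
    · exact h1 (by linear_combination hx - 2 * hs)
    · exact h3 (by linear_combination hx - 4 * hs)
    · exact h1 (by linear_combination -4 * hs + (8 * x - 5) * hx)
  · intro x hx hs
    rcases hs with hs | hs | hs | hs | hs
    · rcases mul_eq_zero.mp hs with h | h
      · exact h2 h
      · rw [h] at hx
        exact h1 (by linear_combination hx)
    · exact h1 (by linear_combination -hx + (8 * x - 2) * hs)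
    · exact h1 (by linear_combination -4 * hx + (8 * x - 5) * hs)
    · exact h1 (by linear_combination -hx + (4 * x - 2) * hs)
    · have h8 : (3 : F) * (8 * x - 1) = 0 := by linear_combination hs - 4 * hx
      rcases mul_eq_zero.mp h8 with h | h
      · exact h3 h
      · exact h1 (by linear_combination -4 * hx + (8 * x - 5) * h)
  · intro x hx hs
    rcases hs with hs | hs | hs | hs | hs
    · exfalso
      have hx0 : x = 0 := by
        rcases mul_eq_zero.mp hs with h | h
        · exact absurd h h4
        · exact pow_eq_zero_iff (two_ne_zero) |>.mp h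
      rw [hx0] at hx
      exact h1 (by linear_combination hx)
    · exact hs
    · exfalso
      -- 16x² = 1, so 12x = 2, 6x = 1, 36 = 36·16x² = 16
      have h6 : (2 : F) * (6 * x - 1) = 0 := by linear_combination hs - hx
      rcases mul_eq_zero.mp h6 with h | h
      · exact h2 h
      · exact h20 (by linear_combination -36 * hs + (96 * x + 16) * h)
    · exfalso
      -- 8x² = 1, so 12x = 3, 4x = 1, 16x² = 1 = 2
      have h6 : (3 : F) * (4 * x - 1) = 0 := by linear_combination 2 * hs - hx
      rcases mul_eq_zero.mp h6 with h | h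
      · exact h3 h
      · exact h1 (by linear_combination -2 * hs + (4 * x + 1) * h)
    · exfalso
      have h6 : (4 : F) * (12 * x - 1) = 0 := by linear_combination hs - (16 * x ^ 2 + 12 * x + 5) * hx
      rcases mul_eq_zero.mp h6 with h | h
      · exact h4 h
      · have h16 : (16 : F) * x ^ 2 = 0 := by linear_combination hx + h
        have hx0 : x = 0 := by
          rcases mul_eq_zero.mp h16 with h' | h'
          · have : (16 : F) = 4 * 4 := by norm_num
            rw [this] at h'
            exact absurd h' (mul_ne_zero h4 h4)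
          · exact pow_eq_zero_iff (two_ne_zero) |>.mp h'
        rw [hx0] at hx
        exact h1 (by linear_combination hx)
  · intro x y hx hy hxy
    have h6 : (x - y) * (4 * (4 * x + 4 * y - 3)) = 0 := by linear_combination hx - hy
    rcases mul_eq_zero.mp h6 with h | h
    · exact absurd (sub_eq_zero.mp h) hxy
    · rcases mul_eq_zero.mp h with h | h
      · exact absurd h h4
      · linear_combination h

end Cfsg.Agent.Lib.Helper5.F11.H9.FrCLeaf
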