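import Cfsg.Agent.Lib.Helper5.F11.H17.FrCDefs
import Cfsg.Agent.Lib.Helper5.F11.H9.FrCSp

/-!
CORE13 (S5679 + S5696), block PL leaves PL1 `pencil`, PL2 `pencil_sub` (helper17's market,
notes/S5679_core_leaves.lean): pencils of roots in an abstract root system `Sys R`.
-/

set_option autoImplicit false
set_option linter.unusedSectionVars false
set_option linter.unusedVariables false

namespace Cfsg.Agent.Lib.Helper5.F11.H9.FrCLeaf

open Module QuadraticMap Matrix Cfsg.Agent.Lib.Helper25.CD Cfsg.Agent.Lib.Helper25.Spin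
  Cfsg.Agent.Lib.Helper5.NSMax Cfsg.Agent.Lib.Helper5.PairMax Cfsg.Agent.Lib.Helper17.OC2
  Cfsg.Agent.Lib.Helper29.FrStd Cfsg.Agent.Lib.Helper11.Mono Cfsg.Agent.Lib.Helper5.F11.H17.FrC

variable {κ : Type} [Fintype κ] [DecidableEq κ] {F : Type*} [Field F] [Fintype F]
  {c : F} {M : Subgroup ↥(Cfsg.isometryGroup F ⇑(stdQ κ F c))}

/-- the natural-number pencil: `a + n (b - a)` is a root -/
theorem pencil_nat {R : (κ → F) → Prop} (hS : Sys R) (n : ℕ) : ∀ {a b : κ → F}, R a → R b →
    a ⬝ᵥ b = 1 → R (a + (n : F) • (b - a)) := by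
  induction n with
  | zero =>
    intro a b ha hb hab
    rw [Nat.cast_zero, zero_smul, add_zero]
    exact ha
  | succ n ih =>
    intro a b ha hb hab
    have hbb : b ⬝ᵥ b = 1 := hS.unit b hb
    have hba : b ⬝ᵥ a = 1 := by rw [dotProduct_comm]; exact hab
    -- the next root `2 b - a`
    have h1 : R (-(a - (2 * (a ⬝ᵥ b)) • b)) := hS.neg _ (hS.refl a b ha hb)
    have h2 : -(a - (2 * (a ⬝ᵥ b)) • b) = (2 : F) • b - a := by
      rw [hab, mul_one]; abel
    rw [h2] at h1
    have h3 : b ⬝ᵥ ((2 : F) • b - a) = 1 := by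
      rw [dotProduct_sub, dotProduct_smul, hbb, hba, smul_eq_mul, mul_one]; ring
    have h4 := ih hb h1 h3
    have h5 : b + (n : F) • ((2 : F) • b - a - b) = a + ((n + 1 : ℕ) : F) • (b - a) := by
      rw [Nat.cast_succ]; module
    rw [h5] at h4
    exact h4

/-- PL1.  `z = b - a` is singular and perpendicular to `a`, `b`; `-r_b a = a + 2 z`; by induction `a + n z ∈ R` for all
`n : ℕ` (the pair `(a + n z, a + (n+1) z)` is again of this kind); `F` is a prime field, so every `t` is a natural number. -/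
theorem pencil (hp : (Fintype.card F).Prime) {R : (κ → F) → Prop} (hS : Sys R) {a b : κ → F} (ha : R a)
    (hb : R b) (hab : a ⬝ᵥ b = 1) (t : F) : R (a + t • (b - a)) := by
  obtain ⟨n, rfl⟩ := exists_natCast_eq hp t
  exact pencil_nat hS n ha hb hab

/-- flipping all the coordinates in `T` -/
theorem flipT_mem {R : (κ → F) → Prop} (hS : Sys R) {a : κ → F} (ha : R a) (T : Finset κ) :
    R (fun l => if l ∈ T then -a l else a l) := by
  induction T using Finset.induction_on with
  | empty =>
    have : (fun l => if l ∈ (∅ : Finset κ) then -a l else a l) = a := by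
      funext l; simp
    rw [this]; exact ha
  | insert i T hi ih =>
    have : (fun l => if l ∈ insert i T then -a l else a l)
        = Cfsg.Agent.Lib.Helper5.F11.H17.FrC.flip i (fun l => if l ∈ T then -a l else a l) := by
      funext l
      unfold Cfsg.Agent.Lib.Helper5.F11.H17.FrC.flip
      beta_reduce
      by_cases hl : l = i
      · subst hl
        rw [Function.update_self, if_pos (Finset.mem_insert_self _ _), if_neg hi]
      · rw [Function.update_of_ne hl]
        by_cases hlT : l ∈ T
        · rw [if_pos (Finset.mem_insert_of_mem hlT), if_pos hlT]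
        · rw [if_neg (by rw [Finset.mem_insert]; tauto), if_neg hlT]
    rw [this]
    exact hS.flip _ i ih

/-- PL2.  `b := ε_T a` (flip all coordinates in `T`) has `a ⬝ᵥ b = 1 - 2 Σ_T a_l² = 1`; PL1 with `(1 - t)/2`. -/
theorem pencil_sub (hp : (Fintype.card F).Prime) (h2 : (2 : F) ≠ 0) {R : (κ → F) → Prop} (hS : Sys R)
    {a : κ → F} (ha : R a) (T : Finset κ) (hT : ∑ l ∈ T, a l ^ 2 = 0) (t : F) :
    R (fun l => if l ∈ T then t * a l else a l) := by
  have hb := flipT_mem hS ha T
  have haa : a ⬝ᵥ a = 1 := hS.unit a ha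
  have hab : a ⬝ᵥ (fun l => if l ∈ T then -a l else a l) = 1 := by
    have h1 : a ⬝ᵥ (fun l => if l ∈ T then -a l else a l)
        = a ⬝ᵥ a - 2 * ∑ l ∈ T, a l ^ 2 := by
      unfold dotProduct
      rw [Finset.mul_sum, ← Finset.sum_filter_add_sum_filter_not Finset.univ (· ∈ T),
        ← Finset.sum_filter_add_sum_filter_not Finset.univ (· ∈ T) (f := fun l => a l * a l)]
      have e1 : ∑ l ∈ Finset.univ.filter (· ∈ T), a l * (if l ∈ T then -a l else a l)
          = - ∑ l ∈ Finset.univ.filter (· ∈ T), a l * a l := by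
        rw [← Finset.sum_neg_distrib]
        refine Finset.sum_congr rfl fun l hl => ?_
        rw [if_pos (Finset.mem_filter.mp hl).2, mul_neg]
      have e2 : ∑ l ∈ Finset.univ.filter (¬ · ∈ T), a l * (if l ∈ T then -a l else a l)
          = ∑ l ∈ Finset.univ.filter (¬ · ∈ T), a l * a l := by
        refine Finset.sum_congr rfl fun l hl => ?_
        rw [if_neg (Finset.mem_filter.mp hl).2]
      have e3 : Finset.univ.filter (· ∈ T) = T := by
        ext l; simp
      rw [e1, e2, e3]
      have e4 : ∑ i ∈ T, 2 * a i ^ 2 = 2 * ∑ i ∈ T, a i * a i := by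
        rw [Finset.mul_sum]
        refine Finset.sum_congr rfl fun l _ => ?_
        ring
      rw [e4]; ring
    rw [h1, haa, hT, mul_zero, sub_zero]
  have h3 := pencil hp hS ha hb hab ((1 - t) / 2)
  have h4 : a + ((1 - t) / 2) • ((fun l => if l ∈ T then -a l else a l) - a)
      = fun l => if l ∈ T then t * a l else a l := by
    funext l
    rw [Pi.add_apply, Pi.smul_apply, Pi.sub_apply, smul_eq_mul]
    by_cases hl : l ∈ T
    · simp only [if_pos hl]
      field_simp
      ring
    · simp only [if_neg hl]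
      ring
  rw [h4] at h3
  exact h3

end Cfsg.Agent.Lib.Helper5.F11.H9.FrCLeaf
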